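import Cfsg.Agent.H56.EMult.Slice.Form

/-!
The cubic evaluated at once on all combinations of up to 78 vectors: one bit for each combination
in each of the two planes.
-/

set_option autoImplicit false
set_option maxRecDepth 100000
set_option Elab.async false

namespace Cfsg.Agent.H56.EMult

open Cfsg.Lie
open Cfsg.Agent.H45 (force force_eq)
open Matrix

/-- the bits `i` of all numbers below `2 ^ n` -/
noncomputable def mask : ℕ → ℕ → ℕ
  | 0, _ => 0
  | n + 1, i => bif Nat.beq i n then (2 ^ 2 ^ n - 1) <<< 2 ^ n else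
      force (mask n i) fun x => x ||| x <<< 2 ^ n

/-- the masks as blocks -/
noncomputable def maskP (n W : ℕ) : Pl :=
  ((List.range n).foldl (fun a i => a ^^^ (mask n i <<< (W * i))) 0, 0)

/-- the entries of a list of columns -/
def entsOf (B : List (List ℕ)) : List (ℕ × ℕ × ℕ) :=
  B.zipIdx.flatMap fun p => (List.range 78).map fun o => (o, p.2, p.1.getD o 0)

/-- the unit entries -/
def idEs : List (ℕ × ℕ × ℕ) := (List.range 78).map fun o => (o, o, 1)

/-- the product of two sliced scalars -/
def pm (x y : Pl) : Pl :=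
  ((x.1 &&& y.1) ^^^ (x.2 &&& y.2), ((x.1 &&& y.2) ^^^ (x.2 &&& y.1)) ^^^ (x.2 &&& y.2))

/-- one entry times a sliced scalar -/
noncomputable def term1 (W : ℕ) (x : Pl) (e : ℕ × ℕ × ℕ) (Q A : Pl) : Pl :=
  match pm x (blk W Q.1 e.2.1, blk W Q.2 e.2.1) with
  | (u, v) => match cm e.2.2 u v with
    | (a, b) => (A.1 ^^^ (a <<< (W * e.1)), A.2 ^^^ (b <<< (W * e.1)))

/-- sparse entries times a sliced scalar, added -/
noncomputable def inner (W : ℕ) (x Q : Pl) (es : List (ℕ × ℕ × ℕ)) : Pl → Pl :=
  List.rec (fun A => A) (fun e _ ih A => force2 (blk W Q.1 e.2.1, blk W Q.2 e.2.1) fun y =>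
    bif Nat.beq (y.1 ||| y.2) 0 then ih A else force2 (term1 W x e Q A) ih) es

/-- the loop of the sliced bracket -/
noncomputable def outer (W : ℕ) (P Q : Pl) (l : List ℕ) : Pl → Pl :=
  List.rec (fun A => A) (fun i _ ih A => force2 (blk W P.1 i, blk W P.2 i) fun x =>
    bif Nat.beq (x.1 ||| x.2) 0 then ih A else force2 (inner W x Q (adE i) A) ih) l

/-- the sliced bracket -/
noncomputable def bmul (W : ℕ) (P Q : Pl) : Pl :=
  force2 P fun P' => force2 Q fun Q' => outer W P' Q' (List.range 78) (0, 0)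

/-- the entries of the form with a unit vector -/
def kcol (j : ℕ) : List (ℕ × ℕ × ℕ) :=
  (kapE.filter fun e => Nat.beq e.2.1 j).map fun e => (0, e.1, e.2.2)

/-- the entries of the form with a bracket of unit vectors -/
def kvec (j k : ℕ) : List (ℕ × ℕ × ℕ) :=
  ((adE j).filter fun f => Nat.beq f.2.1 k).flatMap fun f => smulE f.2.2 (kcol f.1)

/-- a sliced scalar times a sliced vector, added -/
noncomputable def addScal (W : ℕ) (es : List (ℕ × ℕ × ℕ)) (V Q A : Pl) : Pl :=
  force2 (mulF W es V) fun R => force2 (blk W R.1 0, blk W R.2 0) fun s =>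
    bif Nat.beq (s.1 ||| s.2) 0 then A else inner W s Q idEs A

/-- the cubic at a pair of unit vectors -/
noncomputable def cubic (W : ℕ) (V : Pl) (j k : ℕ) : Pl :=
  force2 (mulF W (adE j) V) fun Aj => force2 (mulF W (adE k) V) fun Ak =>
    force2 (addScal W (kvec j k) V V (addScal W (kcol k) V Aj (addScal W (kcol j) V Ak (bmul W Aj Ak))))
      fun X => X

/-- the places where some coordinate is not zero -/
noncomputable def orRows (W : ℕ) (R : Pl) (l : List ℕ) : ℕ → ℕ :=
  List.rec (fun A => A) (fun o _ ih A => force (A ||| (blk W R.1 o ||| blk W R.2 o)) ih) l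

/-- the places where some pair gives a nonzero value -/
noncomputable def sliceOr (W : ℕ) (V : Pl) (pairs : List (ℕ × ℕ)) : ℕ → ℕ :=
  List.rec (fun A => A) (fun p _ ih A =>
    force2 (cubic W V p.1 p.2) fun R => force (orRows W R (List.range 78) A) ih) pairs

/-- the places kept -/
def keepMask (keep : List ℕ) : ℕ := keep.foldl (fun a m => a ||| 1 <<< m) 1

/-- the check of a slice: outside `keep` and zero, every combination has a nonzero value -/
noncomputable def sliceOK (B : List (List ℕ)) (pairs : List (ℕ × ℕ)) (keep : List ℕ) : Bool :=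
  Nat.ble B.length 78 && esOK (entsOf B) &&
    (pairs.all fun p => Nat.blt p.1 78 && Nat.blt p.2 78) &&
      force (2 ^ B.length) fun W => force2 (maskP B.length W) fun M =>
        force2 (mulF W (entsOf B) M) fun V =>
          Nat.beq (sliceOr W V pairs (keepMask keep)) (2 ^ W - 1)

/-- the long root vector, alone -/
def thP : Pl := (1 <<< 77, 0)

/-- the cubic of the long root vector vanishes at all pairs of unit vectors -/
noncomputable def thChk (j : ℕ) : Bool :=
  (List.range 78).all fun k => force2 (cubic 1 thP j k) fun R =>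
    Nat.beq (orRows 1 R (List.range 78) 0) 0

theorem th_ok0 : ((List.range 39).all thChk) = true := by decide +kernel

theorem th_ok1 : (((List.range 39).map (· + 39)).all thChk) = true := by decide +kernel

section Sound

variable {K : Type*} [Field K] (ω : K)

/-- the unit vectors -/
def ue (K : Type*) [Field K] (j : ℕ) : chevE6.Idx → K := fun b => if ix b = j then 1 else 0

/-- the bits of a number as a vector -/
def bvec (K : Type*) [Field K] (m : ℕ) : chevE6.Idx → K := fun b => bitV K (m.testBit (ix b))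

/-- the combination of the vectors `B` by the bits of `m` -/
noncomputable def comb (B : List (List ℕ)) (m : ℕ) : chevE6.Idx → K :=
  spMat ω (entsOf B) *ᵥ bvec K m

/-- one column of a sliced vector -/
def colV (W : ℕ) (P : Pl) (m : ℕ) : chevE6.Idx → K := fun a => pval ω P (W * ix a + m)

theorem sum_ix (f : ℕ → K) : ∑ a : chevE6.Idx, f (ix a) = ((List.range 78).map f).sum := by
  rw [← Equiv.sum_comp ixE.symm]
  have : (List.range 78).map f = List.ofFn fun i : Fin 78 => f i := by
    refine List.ext_getElem (by rw [List.length_map, List.length_ofFn, List.length_range]) fun i h1 h2 => ?_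
    rw [List.getElem_map, List.getElem_range, List.getElem_ofFn]
  rw [this, List.sum_ofFn]
  exact Finset.sum_congr rfl fun i _ => by rw [← ixE_val, Equiv.apply_symm_apply]

theorem mulVec_ue (es : List (ℕ × ℕ × ℕ)) {j : ℕ} (hj : j < 78) (a : chevE6.Idx) :
    (spMat ω es *ᵥ ue K j) a =
      (es.map fun e => if e.1 = ix a ∧ e.2.1 = j then cv ω e.2.2 else 0).sum := by
  obtain ⟨b, hb⟩ := ix_surj hj
  simp only [Matrix.mulVec, dotProduct, ue]
  rw [Finset.sum_eq_single b]
  · simp [hb, spMat]
  · intro c _ hc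
    rw [if_neg fun e => hc (ix_inj (by rw [e, hb])), mul_zero]
  · exact fun e => absurd (Finset.mem_univ _) e

theorem br_ue {j : ℕ} (hj : j < 78) (v : chevE6.Idx → K) :
    br ω (ue K j) v = spMat ω (adE j) *ᵥ v := by
  obtain ⟨b, hb⟩ := ix_surj hj
  rw [br, Finset.sum_eq_single b]
  · simp [ue, hb]
  · intro c _ hc
    rw [ue, if_neg fun e => hc (ix_inj (by rw [e, hb])), zero_smul]
  · exact fun e => absurd (Finset.mem_univ _) e

variable [CharP K 2] {ω} (h : ω ^ 2 + ω + 1 = 0)

include h

theorem colV_mulF {W m : ℕ} (hm : m < W) {es : List (ℕ × ℕ × ℕ)} (hes : esOK es = true) (P : Pl) :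
    colV ω W (mulF W es P) m = spMat ω es *ᵥ colV ω W P m := by
  funext a
  have := congrFun (congrFun (matOf_mulE (W := W) h hes P) a) ⟨m, hm⟩
  simpa [colV, matOf, Matrix.mul_apply, Matrix.mulVec, dotProduct, mulF_eq] using this

theorem pval_pm (x y : Pl) (k : ℕ) : pval ω (pm x y) k = pval ω x k * pval ω y k := by
  have h2 := CharTwo.two_eq_zero (R := K)
  simp only [pval, pm, Nat.testBit_xor, Nat.testBit_and, bitV_xor]
  cases x.1.testBit k <;> cases x.2.testBit k <;> cases y.1.testBit k <;> cases y.2.testBit k <;>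
    simp [bitV] <;>
    first
      | ring1
      | linear_combination h - ω * h2
      | linear_combination -h + (ω + 1) * h2
      | linear_combination -h2
      | linear_combination ω * h2
      | linear_combination -ω * h2

theorem pval_term1 {W i j : ℕ} (hj : j < W) (x : Pl) (hx : x.1 < 2 ^ W ∧ x.2 < 2 ^ W)
    (e : ℕ × ℕ × ℕ) (Q A : Pl) :
    pval ω (term1 W x e Q A) (W * i + j) = pval ω A (W * i + j) +
      (if e.1 = i then cv ω e.2.2 * (pval ω x j * pval ω Q (W * e.2.1 + j)) else 0) := by
  have hq := pval_pm h x (blk W Q.1 e.2.1, blk W Q.2 e.2.1) j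
  rw [pval_blk ω Q e.2.1 hj] at hq
  have hlt : (pm x (blk W Q.1 e.2.1, blk W Q.2 e.2.1)).1 < 2 ^ W ∧
      (pm x (blk W Q.1 e.2.1, blk W Q.2 e.2.1)).2 < 2 ^ W :=
    ⟨Nat.xor_lt_two_pow (Nat.and_lt_two_pow _ (blk_lt _ _ _)) (Nat.and_lt_two_pow _ (blk_lt _ _ _)),
      Nat.xor_lt_two_pow (Nat.xor_lt_two_pow (Nat.and_lt_two_pow _ (blk_lt _ _ _))
        (Nat.and_lt_two_pow _ (blk_lt _ _ _))) (Nat.and_lt_two_pow _ (blk_lt _ _ _))⟩
  unfold term1
  generalize pm x (blk W Q.1 e.2.1, blk W Q.2 e.2.1) = uv at hq hlt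
  obtain ⟨u, v⟩ := uv
  obtain ⟨ha, hb⟩ := cm_lt (c := e.2.2) hlt.1 hlt.2
  have hc := pval_cm h e.2.2 u v j
  rw [hq] at hc
  simp only []
  generalize cm e.2.2 u v = ab at ha hb hc
  obtain ⟨a, b⟩ := ab
  show pval ω (A.1 ^^^ a <<< (W * e.1), A.2 ^^^ b <<< (W * e.1)) _ = _
  rw [pval_xor ω A (a <<< (W * e.1), b <<< (W * e.1))]
  congr 1
  simp only [pval, testBit_put hj ha, testBit_put hj hb]
  by_cases hi : e.1 = i
  · simp only [hi, decide_true, Bool.true_and, if_pos]
    exact hc
  · simp [hi, bitV]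

theorem colV_inner {W m : ℕ} (hm : m < W) (x Q : Pl) (hx : x.1 < 2 ^ W ∧ x.2 < 2 ^ W)
    (es : List (ℕ × ℕ × ℕ)) (hes : ∀ e ∈ es, e.2.1 < 78) : ∀ A : Pl,
    colV ω W (inner W x Q es A) m =
      colV ω W A m + pval ω x m • (spMat ω es *ᵥ colV ω W Q m) := by
  induction es with
  | nil => intro A; simp [inner, spMat_nil]
  | cons e es ih =>
    intro A
    have hstep : ∀ a : chevE6.Idx,
        colV ω W (bif Nat.beq (blk W Q.1 e.2.1 ||| blk W Q.2 e.2.1) 0 then A else term1 W x e Q A) m
          a = colV ω W A m a + (if e.1 = ix a then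
            cv ω e.2.2 * (pval ω x m * pval ω Q (W * e.2.1 + m)) else 0) := by
      intro a
      cases hz : Nat.beq (blk W Q.1 e.2.1 ||| blk W Q.2 e.2.1) 0
      · exact pval_term1 h hm x hx e Q A
      · have h0 := Nat.eq_of_beq_eq_true hz
        rw [Nat.or_eq_zero_iff] at h0
        have : pval ω Q (W * e.2.1 + m) = 0 := by
          rw [← pval_blk ω Q e.2.1 hm, h0.1, h0.2, pval_zero]
        simp [this]
    rw [show inner W x Q (e :: es) A = force2 (blk W Q.1 e.2.1, blk W Q.2 e.2.1) (fun y =>
      bif Nat.beq (y.1 ||| y.2) 0 then inner W x Q es A else force2 (term1 W x e Q A) (inner W x Q es))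
      from rfl, force2_eq, force2_eq, ← Bool.apply_cond (inner W x Q es),
      ih fun y hy => hes y (List.mem_cons_of_mem _ hy)]
    have hsplit : spMat ω (e :: es) = spMat ω [e] + spMat ω es := spMat_append ω [e] es
    rw [hsplit, Matrix.add_mulVec, smul_add, ← add_assoc]
    congr 1
    funext a
    obtain ⟨b, hb⟩ := ix_surj (hes e List.mem_cons_self)
    rw [hstep]
    simp only [Pi.add_apply, Pi.smul_apply, colV, smul_eq_mul, Matrix.mulVec, dotProduct, spMat,
      Matrix.of_apply, List.map_cons, List.map_nil, List.sum_cons, List.sum_nil, add_zero]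
    congr 1
    rw [Finset.sum_eq_single b]
    · rw [hb]
      by_cases h1 : e.1 = ix a
      · simp only [h1, and_self, if_pos]; ring
      · simp [h1]
    · intro c _ hc
      rw [if_neg fun e' => hc (ix_inj (by rw [← e'.2, hb])), zero_mul]
    · exact fun e' => absurd (Finset.mem_univ _) e'

theorem colV_outer {W m : ℕ} (hm : m < W) (P Q : Pl) :
    ∀ (l : List ℕ), (∀ i ∈ l, i < 78) → ∀ A : Pl, colV ω W (outer W P Q l A) m = colV ω W A m +
      (l.map fun i => pval ω P (W * i + m) • (spMat ω (adE i) *ᵥ colV ω W Q m)).sum := by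
  intro l
  induction l with
  | nil => intro _ A; simp [outer]
  | cons i l ih =>
    intro hl A
    have hi := hl i List.mem_cons_self
    rw [show outer W P Q (i :: l) A = force2 (blk W P.1 i, blk W P.2 i) (fun x =>
      bif Nat.beq (x.1 ||| x.2) 0 then outer W P Q l A else
        force2 (inner W x Q (adE i) A) (outer W P Q l)) from rfl, force2_eq, List.map_cons,
      List.sum_cons]
    have hx : (blk W P.1 i) < 2 ^ W ∧ (blk W P.2 i) < 2 ^ W := ⟨blk_lt _ _ _, blk_lt _ _ _⟩
    cases hz : Nat.beq (blk W P.1 i ||| blk W P.2 i) 0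
    · simp only [cond_false, force2_eq]
      rw [ih (fun j hj => hl j (List.mem_cons_of_mem _ hj)),
        colV_inner h hm _ Q hx _ (fun e he => (esOK_spec (es_ad hi) e he).2.1),
        pval_blk ω P i hm, add_assoc]
    · simp only [cond_true]
      rw [ih (fun j hj => hl j (List.mem_cons_of_mem _ hj))]
      have h0 := Nat.eq_of_beq_eq_true hz
      rw [Nat.or_eq_zero_iff] at h0
      have : pval ω P (W * i + m) = 0 := by
        rw [← pval_blk ω P i hm, h0.1, h0.2, pval_zero]
      rw [this, zero_smul, zero_add]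

theorem colV_bmul {W m : ℕ} (hm : m < W) (P Q : Pl) :
    colV ω W (bmul W P Q) m = br ω (colV ω W P m) (colV ω W Q m) := by
  rw [bmul, force2_eq, force2_eq, colV_outer h hm P Q _ (fun i hi => List.mem_range.1 hi)]
  funext a
  simp only [br, Pi.add_apply, Finset.sum_apply, Pi.smul_apply]
  rw [show colV ω W (0, 0) m a = 0 from pval_zero ω _, zero_add, Pi.list_sum_apply, List.map_map,
    ← sum_ix]
  rfl

theorem colV_addScal {W m : ℕ} (hm : m < W) {es : List (ℕ × ℕ × ℕ)} (hes : esOK es = true)
    (V Q A : Pl) :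
    colV ω W (addScal W es V Q A) m = colV ω W A m +
      (es.map fun e => if e.1 = 0 then cv ω e.2.2 * pval ω V (W * e.2.1 + m) else 0).sum •
        colV ω W Q m := by
  rw [addScal, force2_eq, force2_eq]
  generalize hs : (blk W (mulF W es V).1 0, blk W (mulF W es V).2 0) = s
  have hskip : colV ω W (bif Nat.beq (s.1 ||| s.2) 0 then A else inner W s Q idEs A) m =
      colV ω W (inner W s Q idEs A) m := by
    cases hz : Nat.beq (s.1 ||| s.2) 0
    · rfl
    · have h0 := Nat.eq_of_beq_eq_true hz
      rw [Nat.or_eq_zero_iff] at h0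
      rw [cond_true, colV_inner h hm s Q (hs ▸ ⟨blk_lt _ _ _, blk_lt _ _ _⟩) idEs (by decide),
        show pval ω s m = 0 by rw [show s = (0, 0) from Prod.ext h0.1 h0.2, pval_zero], zero_smul,
        add_zero]
  rw [hskip, ← hs, colV_inner h hm _ Q ⟨blk_lt _ _ _, blk_lt _ _ _⟩ idEs (by decide)]
  congr 2
  · rw [pval_blk ω _ 0 hm, mulF_eq]
    have h2 : ∀ (R : Pl), pval ω (addAll W V es R) (W * 0 + m) =
        pval ω R (W * 0 + m) + rowSum ω es 0 fun k => pval ω V (W * k + m) := by
      intro R
      clear hes hskip hs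
      induction es with
      | nil => simp [addAll, rowSum]
      | cons e es ih =>
        rw [addAll, pval_add1 h hm, ih]
        simp only [rowSum, List.map_cons, List.sum_cons]
        ring
    rw [show mulE W es V = addAll W V es (0, 0) from rfl, h2, pval_zero, zero_add]
    rfl
  · funext a
    simp only [Matrix.mulVec, dotProduct, spMat, idEs, Matrix.of_apply, List.map_map,
      Function.comp_def, cv_one]
    rw [Finset.sum_eq_single a]
    · rw [← sum_ix (K := K) (fun o => if o = ix a ∧ o = ix a then (1 : K) else 0),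
        Finset.sum_eq_single a]
      · simp
      · intro c _ hc; rw [if_neg fun e => hc (ix_inj e.1)]
      · exact fun e => absurd (Finset.mem_univ _) e
    · intro c _ hc
      rw [← sum_ix (K := K) (fun o => if o = ix a ∧ o = ix c then (1 : K) else 0),
        Finset.sum_eq_zero, zero_mul]
      intro d _
      rw [if_neg fun e => hc (ix_inj (e.2.symm.trans e.1))]
    · exact fun e => absurd (Finset.mem_univ _) e

omit h in
theorem kcol_mem {j : ℕ} {e : ℕ × ℕ × ℕ} (he : e ∈ kcol j) :
    e.1 = 0 ∧ e.2.1 < 78 ∧ e.2.2 < 4 := by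
  obtain ⟨f, hf, rfl⟩ := List.mem_map.1 he
  obtain ⟨h1, -, h3⟩ := esOK_spec es_kap f (List.mem_filter.1 hf).1
  exact ⟨rfl, h3, h1⟩

omit h in
theorem kvec_ok {j : ℕ} (hj : j < 78) (k : ℕ) : esOK (kvec j k) = true := by
  refine List.all_eq_true.2 fun e he => ?_
  obtain ⟨f, hf, he⟩ := List.mem_flatMap.1 he
  obtain ⟨g, hg, rfl⟩ := List.mem_map.1 he
  obtain ⟨h1, h2, h3⟩ := kcol_mem hg
  have hf' := (esOK_spec (es_ad hj) f (List.mem_filter.1 hf).1).1
  have hc : cmulC f.2.2 g.2.2 < 4 := by
    have : ∀ a, a < 4 → ∀ b, b < 4 → cmulC a b < 4 := by decide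
    exact this _ hf' _ h3
  simp only [Bool.and_eq_true, Nat.blt_eq]
  exact ⟨⟨hc, h2⟩, by omega⟩

omit h in
theorem kcol_ok (j : ℕ) : esOK (kcol j) = true := by
  refine List.all_eq_true.2 fun e he => ?_
  obtain ⟨h1, h2, h3⟩ := kcol_mem he
  simp only [Bool.and_eq_true, Nat.blt_eq]
  exact ⟨⟨h3, h2⟩, by omega⟩

omit h in
theorem kcol_sum {j : ℕ} (hj : j < 78) (f : ℕ → K) :
    ((kcol j).map fun e => if e.1 = 0 then cv ω e.2.2 * f e.2.1 else 0).sum =
      ∑ a, f (ix a) * (spMat ω kapE *ᵥ ue K j) a := by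
  simp only [mulVec_ue ω kapE hj, kcol, List.map_map, Function.comp_def, if_pos]
  have hk := fun e he => (esOK_spec es_kap e he).2.2
  generalize kapE = es at hk
  induction es with
  | nil => simp
  | cons e es ih =>
    obtain ⟨b, hb⟩ := ix_surj (hk e List.mem_cons_self)
    simp only [List.map_cons, List.sum_cons, mul_add, Finset.sum_add_distrib]
    rw [← ih fun x hx => hk x (List.mem_cons_of_mem _ hx)]
    by_cases he : e.2.1 = j
    · rw [List.filter_cons_of_pos (by rw [he]; exact beqT _), List.map_cons, List.sum_cons]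
      congr 1
      rw [Finset.sum_eq_single b]
      · rw [if_pos ⟨hb.symm, he⟩, hb]; ring
      · intro c _ hc; rw [if_neg fun e' => hc (ix_inj (by rw [← e'.1, hb])), mul_zero]
      · exact fun e' => absurd (Finset.mem_univ _) e'
    · rw [List.filter_cons_of_neg (by rw [beqF he]; simp)]
      conv_rhs => arg 1; arg 2; ext c; rw [if_neg fun e' => he e'.2, mul_zero]
      rw [Finset.sum_const_zero, zero_add]

theorem kvec_sum {j k : ℕ} (hj : j < 78) (hk : k < 78) (f : ℕ → K) :
    ((kvec j k).map fun e => if e.1 = 0 then cv ω e.2.2 * f e.2.1 else 0).sum =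
      ∑ a, f (ix a) * (spMat ω kapE *ᵥ (spMat ω (adE j) *ᵥ ue K k)) a := by
  have hfs := fun e he => esOK_spec (es_ad hj) e he
  rw [kvec]
  generalize adE j = es at hfs
  induction es with
  | nil => simp [spMat_nil]
  | cons g es ih =>
    obtain ⟨hgc, hgcol, hgrow⟩ := hfs g List.mem_cons_self
    have ih' := ih fun x hx => hfs x (List.mem_cons_of_mem _ hx)
    have hsplit : spMat ω (g :: es) = spMat ω [g] + spMat ω es := spMat_append ω [g] es
    rw [hsplit, Matrix.add_mulVec, Matrix.mulVec_add]
    simp only [Pi.add_apply, mul_add, Finset.sum_add_distrib]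
    rw [← ih']
    have hone : ∀ a, (spMat ω [g] *ᵥ ue K k) a =
        if g.1 = ix a ∧ g.2.1 = k then cv ω g.2.2 else 0 := by
      intro a; rw [mulVec_ue ω _ hk]; simp
    by_cases he : g.2.1 = k
    · rw [List.filter_cons_of_pos (by rw [he]; exact beqT _), List.flatMap_cons, List.map_append,
        List.sum_append]
      congr 1
      have hvec : spMat ω [g] *ᵥ ue K k = cv ω g.2.2 • ue K g.1 := by
        funext a
        rw [hone]
        by_cases h1 : g.1 = ix a
        · simp [ue, h1, he]
        · simp [ue, h1, Ne.symm h1]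
      rw [hvec, Matrix.mulVec_smul]
      have := kcol_sum (ω := ω) hgrow f
      simp only [Pi.smul_apply, smul_eq_mul, mul_left_comm _ (cv ω g.2.2), ← Finset.mul_sum,
        ← this, ← List.sum_map_mul_left, smulE, List.map_map, Function.comp_def]
      refine congrArg List.sum (List.map_congr_left fun e hek => ?_)
      obtain ⟨h1, -, h3⟩ := kcol_mem hek
      rw [if_pos h1, if_pos h1, (cv_cmul h hgc h3).2, mul_assoc]
    · rw [List.filter_cons_of_neg (by rw [beqF he]; simp)]
      have hvec : spMat ω [g] *ᵥ ue K k = 0 := by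
        funext a; rw [hone, if_neg fun e' => he e'.2]; rfl
      simp [hvec]

/-- the meaning of the sliced cubic -/
theorem colV_cubic {W m : ℕ} (hm : m < W) (V : Pl) {j k : ℕ} (hj : j < 78) (hk : k < 78) :
    colV ω W (cubic W V j k) m = Fv ω (colV ω W V m) (ue K j) (ue K k) := by
  simp only [cubic, force2_eq]
  rw [colV_addScal h hm (kvec_ok hj k), colV_addScal h hm (kcol_ok k),
    colV_addScal h hm (kcol_ok j), colV_bmul h hm, colV_mulF h hm (es_ad hj),
    colV_mulF h hm (es_ad hk), kcol_sum (ω := ω) hj (fun o => pval ω V (W * o + m)),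
    kcol_sum (ω := ω) hk (fun o => pval ω V (W * o + m)),
    kvec_sum h hj hk (fun o => pval ω V (W * o + m))]
  rw [Fv, br_ue ω hj, br_ue ω hk, br_ue ω hj]
  rfl

omit h in
theorem testBit_orRows (W : ℕ) (R : Pl) : ∀ (l : List ℕ) (A m : ℕ),
    (orRows W R l A).testBit m = true →
      A.testBit m = true ∨ ∃ o ∈ l, (blk W R.1 o).testBit m = true ∨ (blk W R.2 o).testBit m = true := by
  intro l
  induction l with
  | nil => intro A m hb; exact Or.inl hb
  | cons o l ih =>
    intro A m hb
    rw [show orRows W R (o :: l) A = force (A ||| (blk W R.1 o ||| blk W R.2 o)) (orRows W R l)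
      from rfl, force_eq] at hb
    rcases ih _ _ hb with h1 | ⟨o', ho', h2⟩
    · simp only [Nat.testBit_or, Bool.or_eq_true] at h1
      rcases h1 with h1 | h1
      · exact Or.inl h1
      · exact Or.inr ⟨o, List.mem_cons_self, h1⟩
    · exact Or.inr ⟨o', List.mem_cons_of_mem _ ho', h2⟩

theorem sliceOr_sound {W : ℕ} (V : Pl) : ∀ (pairs : List (ℕ × ℕ)),
    (∀ p ∈ pairs, p.1 < 78 ∧ p.2 < 78) → ∀ (A m : ℕ), m < W →
      (sliceOr W V pairs A).testBit m = true →
      A.testBit m = true ∨ ∃ a b, Fv ω (colV ω W V m) a b ≠ 0 := by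
  intro pairs
  induction pairs with
  | nil => intro _ A m _ hb; exact Or.inl hb
  | cons p ps ih =>
    intro hp A m hm hb
    rw [show sliceOr W V (p :: ps) A = force2 (cubic W V p.1 p.2) (fun R =>
      force (orRows W R (List.range 78) A) (sliceOr W V ps)) from rfl, force2_eq, force_eq] at hb
    rcases ih (fun q hq => hp q (List.mem_cons_of_mem _ hq)) _ m hm hb with h1 | h1
    · rcases testBit_orRows W _ _ _ _ h1 with h2 | ⟨o, ho, h3⟩
      · exact Or.inl h2
      · refine Or.inr ⟨ue K p.1, ue K p.2, fun e => ?_⟩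
        obtain ⟨hp1, hp2⟩ := hp p List.mem_cons_self
        rw [← colV_cubic h hm V hp1 hp2] at e
        obtain ⟨a, ha⟩ := ix_surj (List.mem_range.1 ho)
        have e' := congrFun e a
        simp only [colV, Pi.zero_apply, ha] at e'
        rw [← pval_zero ω (W * o + m)] at e'
        obtain ⟨e1, e2⟩ := pval_inj h e'
        simp only [Nat.zero_testBit] at e1 e2
        simp [testBit_blk, e1, e2] at h3
    · exact Or.inr h1

omit h in
theorem testBit_mask : ∀ n i m : ℕ,
    (mask n i).testBit m = (decide (i < n) && (decide (m < 2 ^ n) && m.testBit i)) := by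
  intro n
  induction n with
  | zero => intro i m; simp [mask]
  | succ n ih =>
    intro i m
    have hp : 2 ^ (n + 1) = 2 ^ n + 2 ^ n := by rw [pow_succ]; omega
    by_cases hi : i = n
    · subst hi
      rw [mask, beqT, cond_true, Nat.testBit_shiftLeft, Nat.testBit_two_pow_sub_one]
      by_cases h1 : 2 ^ i ≤ m
      · by_cases h2 : m < 2 ^ (i + 1)
        · obtain ⟨r, rfl⟩ := Nat.exists_eq_add_of_le h1
          have hr : r < 2 ^ i := by omega
          rw [Nat.testBit_two_pow_add_eq, Nat.testBit_lt_two_pow hr]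
          simp [h1, h2, hr]
        · simp [h1, h2]; omega
      · rw [Nat.testBit_lt_two_pow (not_le.1 h1)]
        simp [h1]
    · rw [mask, beqF hi, cond_false, force_eq, Nat.testBit_or, Nat.testBit_shiftLeft, ih, ih]
      by_cases hin : i < n
      · by_cases h1 : 2 ^ n ≤ m
        · obtain ⟨r, rfl⟩ := Nat.exists_eq_add_of_le h1
          have hbit : (2 ^ n + r).testBit i = r.testBit i := Nat.testBit_two_pow_add_gt hin r
          by_cases hr : r < 2 ^ n
          · simp [hin, hr, hbit, show i < n + 1 by omega, show 2 ^ n + r < 2 ^ (n + 1) by omega]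
          · simp [hin, hr, show ¬ 2 ^ n + r < 2 ^ (n + 1) by omega]
        · simp [hin, not_le.1 h1, h1, show i < n + 1 by omega,
            show m < 2 ^ (n + 1) by omega]
      · simp [hin, show ¬ i < n + 1 by omega]

omit h in
theorem testBit_maskP {n W : ℕ} (hW : W = 2 ^ n) {m : ℕ} (hm : m < W) (c : ℕ) :
    (maskP n W).1.testBit (W * c + m) = (decide (c < n) && m.testBit c) := by
  have hlt : ∀ i, mask n i < 2 ^ W := by
    intro i
    refine Nat.lt_pow_two_of_testBit _ fun k hk => ?_
    rw [testBit_mask]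
    simp [show ¬ k < 2 ^ n by omega]
  have key : ∀ (l : List ℕ), l.Nodup → ∀ a : ℕ,
      (l.foldl (fun a i => a ^^^ (mask n i <<< (W * i))) a).testBit (W * c + m) =
        (a.testBit (W * c + m) ^^ (decide (c ∈ l) && (mask n c).testBit m)) := by
    intro l
    induction l with
    | nil => intro _ a; simp
    | cons i l ih =>
      intro hnd a
      obtain ⟨hnot, hnd'⟩ := List.nodup_cons.1 hnd
      rw [List.foldl_cons, ih hnd', Nat.testBit_xor, testBit_put hm (hlt i)]
      by_cases hc : i = c
      · subst hc; simp [hnot]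
      · simp [hc, show c ≠ i from Ne.symm hc]
  show ((List.range n).foldl _ 0).testBit _ = _
  rw [key _ List.nodup_range 0, testBit_mask]
  simp [hW ▸ hm, List.mem_range]

/-- outside the kept places every nonzero combination has a nonzero value -/
theorem slice_sound {B : List (List ℕ)} {pairs : List (ℕ × ℕ)} {keep : List ℕ}
    (hs : sliceOK B pairs keep = true) (m : ℕ) (hm : m < 2 ^ B.length) (h0 : m ≠ 0)
    (hk : m ∉ keep) : ∃ a b, Fv ω (comb ω B m) a b ≠ 0 := by
  simp only [sliceOK, Bool.and_eq_true, force_eq, force2_eq, List.all_eq_true, Nat.blt_eq,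
    Nat.ble_eq, Nat.beq_eq] at hs
  obtain ⟨⟨⟨hlen, hes⟩, hpairs⟩, hall⟩ := hs
  set n := B.length
  have hbit : (sliceOr (2 ^ n) (mulF (2 ^ n) (entsOf B) (maskP n (2 ^ n))) pairs
      (keepMask keep)).testBit m = true := by
    rw [hall, Nat.testBit_two_pow_sub_one]; simpa using hm
  have hv : colV ω (2 ^ n) (mulF (2 ^ n) (entsOf B) (maskP n (2 ^ n))) m = comb ω B m := by
    rw [colV_mulF h hm hes, comb]
    congr 1
    funext a
    simp only [colV, bvec, pval, show (maskP n (2 ^ n)).2 = 0 from rfl, Nat.zero_testBit,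
      testBit_maskP rfl hm]
    by_cases hc : ix a < n
    · simp [hc, bitV]
    · rw [Nat.testBit_lt_two_pow (lt_of_lt_of_le hm (Nat.pow_le_pow_right (by norm_num) (not_lt.1 hc)))]
      simp [bitV]
  rcases sliceOr_sound h _ pairs (fun p hp => hpairs p hp) _ m hm hbit with h1 | h1
  · exfalso
    have key : ∀ (l : List ℕ) (a : ℕ), (l.foldl (fun a m => a ||| 1 <<< m) a).testBit m = true →
        a.testBit m = true ∨ m ∈ l := by
      intro l
      induction l with
      | nil => intro a ha; exact Or.inl ha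
      | cons x l ih =>
        intro a ha
        rcases ih _ ha with h2 | h2
        · rw [Nat.testBit_or, Bool.or_eq_true, Nat.one_shiftLeft, Nat.testBit_two_pow,
            decide_eq_true_eq] at h2
          rcases h2 with h2 | h2
          · exact Or.inl h2
          · exact Or.inr (h2 ▸ List.mem_cons_self)
        · exact Or.inr (List.mem_cons_of_mem _ h2)
    rcases key keep 1 h1 with h2 | h2
    · rw [Nat.testBit_one_eq_true_iff_self_eq_zero] at h2; exact h0 h2
    · exact hk h2
  · rwa [hv] at h1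

omit h in
theorem sum_ue (a : chevE6.Idx → K) : a = ∑ i, a i • ue K (ix i) := by
  funext b
  simp only [Finset.sum_apply, Pi.smul_apply, ue, smul_eq_mul]
  rw [Finset.sum_eq_single b]
  · simp
  · intro c _ hc
    rw [if_neg fun e => hc (ix_inj e).symm, mul_zero]
  · exact fun e => absurd (Finset.mem_univ _) e

omit h in
theorem br_sum_left {ι : Type*} (s : Finset ι) (c : ι → K) (X : ι → chevE6.Idx → K)
    (b : chevE6.Idx → K) : br ω (∑ i ∈ s, c i • X i) b = ∑ i ∈ s, c i • br ω (X i) b := by
  simp only [br, Finset.sum_apply, Pi.smul_apply, Finset.sum_smul, Finset.smul_sum, smul_smul,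
    smul_eq_mul]
  rw [Finset.sum_comm]

omit h in
theorem br_sum_right {ι : Type*} (s : Finset ι) (c : ι → K) (X : ι → chevE6.Idx → K)
    (b : chevE6.Idx → K) : br ω b (∑ i ∈ s, c i • X i) = ∑ i ∈ s, c i • br ω b (X i) := by
  simp only [br, Matrix.mulVec_sum, Matrix.mulVec_smul, Finset.smul_sum, smul_smul]
  rw [Finset.sum_comm]
  simp only [mul_comm]

omit h in
theorem kp_sum_right {ι : Type*} (s : Finset ι) (c : ι → K) (X : ι → chevE6.Idx → K)
    (b : chevE6.Idx → K) : kp ω b (∑ i ∈ s, c i • X i) = ∑ i ∈ s, c i * kp ω b (X i) := by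
  simp only [kp, Matrix.mulVec_sum, Matrix.mulVec_smul, dotProduct_sum, dotProduct_smul,
    smul_eq_mul]

omit h in
theorem Fv_expand (v a b : chevE6.Idx → K) :
    Fv ω v a b = ∑ i, ∑ l, (a i * b l) • Fv ω v (ue K (ix i)) (ue K (ix l)) := by
  conv_lhs => rw [sum_ue a, sum_ue b]
  simp only [Fv, br_sum_left, br_sum_right, kp_sum_right, Finset.sum_mul, Finset.mul_sum,
    Finset.sum_smul, Finset.smul_sum, smul_smul, smul_add, Finset.sum_add_distrib]
  congr 1
  · congr 1
    · congr 1
      · rw [Finset.sum_comm]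
        exact Finset.sum_congr rfl fun i _ => Finset.sum_congr rfl fun l _ => by rw [mul_comm (b l)]
      · rw [Finset.sum_comm]
        exact Finset.sum_congr rfl fun i _ => Finset.sum_congr rfl fun l _ => by congr 1; ring
    · exact Finset.sum_congr rfl fun i _ => Finset.sum_congr rfl fun l _ => by congr 1; ring
  · simp only [kp, Matrix.mulVec_sum, Matrix.mulVec_smul, dotProduct_sum, dotProduct_smul,
      smul_eq_mul, Finset.sum_smul]
    rw [Finset.sum_comm]
    refine Finset.sum_congr rfl fun i _ => Finset.sum_congr rfl fun l _ => ?_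
    congr 1; ring

/-- the long root vector -/
theorem Fv_th (a b : chevE6.Idx → K) : Fv ω (ue K 77) a b = 0 := by
  have hth : colV ω 1 thP 0 = ue K 77 := by
    funext c
    simp only [colV, thP, pval, Nat.zero_testBit, Nat.one_shiftLeft, Nat.testBit_two_pow,
      one_mul, add_zero, ue]
    by_cases hc : ix c = 77
    · simp [hc, bitV]
    · simp [hc, Ne.symm hc, bitV]
  rw [Fv_expand]
  refine Finset.sum_eq_zero fun i _ => Finset.sum_eq_zero fun l _ => ?_
  suffices Fv ω (ue K 77) (ue K (ix i)) (ue K (ix l)) = 0 by rw [this, smul_zero]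
  have hj : thChk (ix i) = true := by
    rcases Nat.lt_or_ge (ix i) 39 with h1 | h1
    · exact List.all_eq_true.1 th_ok0 _ (List.mem_range.2 h1)
    · exact List.all_eq_true.1 th_ok1 _
        (List.mem_map.2 ⟨ix i - 39, List.mem_range.2 (by have := ix_lt i; omega), by omega⟩)
  have hR := List.all_eq_true.1 hj (ix l) (List.mem_range.2 (ix_lt l))
  simp only [force2_eq, Nat.beq_eq] at hR
  rw [← hth, ← colV_cubic h Nat.one_pos _ (ix_lt i) (ix_lt l)]
  funext c
  have key : ∀ (l : List ℕ) (R : Pl) (A : ℕ), orRows 1 R l A = 0 →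
      A = 0 ∧ ∀ o ∈ l, blk 1 R.1 o = 0 ∧ blk 1 R.2 o = 0 := by
    intro l R
    induction l with
    | nil => intro A hA; exact ⟨hA, by simp⟩
    | cons o l ih =>
      intro A hA
      rw [show orRows 1 R (o :: l) A = force (A ||| (blk 1 R.1 o ||| blk 1 R.2 o)) (orRows 1 R l)
        from rfl, force_eq] at hA
      obtain ⟨h1, h2⟩ := ih _ hA
      simp only [Nat.or_eq_zero_iff] at h1
      refine ⟨h1.1, fun x hx => ?_⟩
      rcases List.mem_cons.1 hx with rfl | hx
      · exact h1.2
      · exact h2 x hx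
  obtain ⟨e1, e2⟩ := (key _ _ _ hR).2 (ix c) (List.mem_range.2 (ix_lt c))
  show pval ω _ (1 * ix c + 0) = 0
  rw [← pval_blk ω _ (ix c) Nat.one_pos, e1, e2, pval_zero]

end Sound

section Group

variable {K : Type*} [Field K] [Fintype K] (hK : Fintype.card K = 4)

include hK

/-- the cubic vanishes on the orbit of the long root vector -/
theorem Fv_orbit (g : ↥(twistedE6 K 2)) (a b : chevE6.Idx → K) :
    Fv (omK hK) (g.1.val *ᵥ ue K 77) a b = 0 := by
  have := charTwo hK
  have hinv : ∀ v : chevE6.Idx → K, g.1.val *ᵥ ((g⁻¹).1.val *ᵥ v) = v := by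
    intro v; simp [Matrix.mulVec_mulVec]
  rw [← hinv a, ← hinv b, Fv_equiv, Fv_th (omK_spec hK), Matrix.mulVec_zero]

end Group

end Cfsg.Agent.H56.EMult
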