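import Cfsg.Agent.H56.EMult.Slice.Eval

/-!
Completeness of fixed points inside the rational form: the orbit of the long root vector consists of
binary combinations of a rational basis, and linear certificates confine those satisfying given
equations to a small subspace.
-/

set_option autoImplicit false
set_option maxRecDepth 100000
set_option Elab.async false

namespace Cfsg.Agent.H56.EMult

open Cfsg.Lie
open Cfsg.Agent.H45 (force force_eq)
open Matrix

/-- the rational basis as entries, by columns -/
def ratE : List (ℕ × ℕ × ℕ) := uE ratTab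

/-- the rational basis as a packed array -/
noncomputable def PRB : Pl := mulF 78 ratE idP

/-- the check of a letter on the rational basis -/
noncomputable def ratLet (k : ℕ) : Bool :=
  peq (stepE 78 (elE k) PRB) (mulF 78 ratE (ratActTab.getD k 0, 0))

theorem rat_ok : (esOK ratE && (List.range 12).all ratLet) = true := by decide +kernel

/-- the long root vector is a vector of the rational basis -/
noncomputable def thRat : Bool :=
  force2 PRB fun P => (List.range 78).all fun o =>
    Bool.rec (Bool.not (P.1.testBit (78 * o + 77))) (P.1.testBit (78 * o + 77)) (Nat.beq o 77) &&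
      Bool.not (P.2.testBit (78 * o + 77))

theorem thRat_ok : thRat = true := by decide +kernel

/-- values computed first -/
noncomputable def forceMap {α β : Type} (f : α → Pl) : List α → (List Pl → β) → β :=
  List.rec (fun k => k []) fun a _ ih k => force2 (f a) fun x => ih fun xs => k (x :: xs)

theorem forceMap_eq {α β : Type} (f : α → Pl) : ∀ (l : List α) (k : List Pl → β),
    forceMap f l k = k (l.map f) := by
  intro l
  induction l with
  | nil => intro k; rfl
  | cons a l ih =>
    intro k
    show force2 (f a) (fun x => forceMap f l fun xs => k (x :: xs)) = _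
    rw [force2_eq, ih]
    rfl

/-- numbers computed first -/
noncomputable def forceNum {α β : Type} (f : α → ℕ) : List α → (List ℕ → β) → β :=
  List.rec (fun k => k []) fun a _ ih k => force (f a) fun x => ih fun xs => k (x :: xs)

theorem forceNum_eq {α β : Type} (f : α → ℕ) : ∀ (l : List α) (k : List ℕ → β),
    forceNum f l k = k (l.map f) := by
  intro l
  induction l with
  | nil => intro k; rfl
  | cons a l ih =>
    intro k
    show force (f a) (fun x => forceNum f l fun xs => k (x :: xs)) = _
    rw [force_eq, ih]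
    rfl

/-- the difference of the images of the rational basis under two words -/
noncomputable def dOf (p : List ℕ × List ℕ) : Pl :=
  force2 PRB fun P => force2 (runT 78 (p.1.map elE) P) fun A =>
    force2 (runT 78 (p.2.map elE) P) fun B => (A.1 ^^^ B.1, A.2 ^^^ B.2)

/-- one equation: a pair, a row and a plane -/
def eqOf (Ds : List Pl) (s : ℕ × ℕ) : ℕ :=
  bif Nat.beq (s.2 % 2) 0 then blk 78 (Ds.getD s.1 (0, 0)).1 (s.2 / 2)
  else blk 78 (Ds.getD s.1 (0, 0)).2 (s.2 / 2)

/-- the sum of chosen equations -/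
def combEq (eqs : List ℕ) (c : List ℕ) : ℕ := c.foldl (fun a j => a ^^^ eqs.getD j 0) 0

/-- the pivot mask of a coordinate -/
def pivMask (Zb : ℕ) (piv : List ℕ) (n i : ℕ) : ℕ :=
  (List.range n).foldl
    (fun a j => a ^^^ (bif Zb.testBit (78 * i + j) then 1 <<< piv.getD j 0 else 0)) 0

/-- a linear certificate: matrix, pivots, chosen equations, combinations -/
abbrev FixCert := ℕ × List ℕ × List (ℕ × ℕ) × List (List ℕ)

/-- the vectors of the rational form satisfying the equations lie in the span of `B` -/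
noncomputable def fixOK (ops : List (List ℕ × List ℕ)) (B : List (List ℕ)) (ct : FixCert) : Bool :=
  Nat.ble B.length 78 && esOK (entsOf B) &&
    (ops.all fun p => (p.1.all fun k => Nat.blt k 244) && p.2.all fun k => Nat.blt k 244) &&
    (ct.2.1.all fun p => Nat.blt p 78) && Nat.beq ct.2.1.length B.length &&
    (ct.2.2.1.all fun s => Nat.blt s.2 156) &&
    peq (mulF 78 ratE (ct.1, 0)) (mulF 78 (entsOf B) idP) &&
      forceMap dOf ops fun Ds => forceNum (eqOf Ds) ct.2.2.1 fun eqs =>
        (List.range 78).all fun i =>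
          Nat.beq (combEq eqs (ct.2.2.2.getD i [])) (2 ^ i ^^^ pivMask ct.1 ct.2.1 B.length i)

section Sound

variable {K : Type*} [Field K] (ω : K)

/-- a combination of the rational basis -/
noncomputable def rcomb (m : ℕ) : chevE6.Idx → K := spMat ω ratE *ᵥ bvec K m

/-- binary values -/
def BinV (x : K) : Prop := ∃ b, x = bitV K b

/-- the value of a mask at a binary vector -/
def lin (x : chevE6.Idx → K) (mask : ℕ) : K := ∑ b, bitV K (mask.testBit (ix b)) * x b

variable [CharP K 2] {ω} (h : ω ^ 2 + ω + 1 = 0)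

theorem binV_sum {ι : Type*} (s : Finset ι) {f : ι → K} (hf : ∀ i ∈ s, BinV (f i)) :
    BinV (∑ i ∈ s, f i) := by
  classical
  induction s using Finset.induction_on with
  | empty => exact ⟨false, by simp [bitV]⟩
  | insert a s ha ih =>
    obtain ⟨b, hb⟩ := hf a (Finset.mem_insert_self _ _)
    obtain ⟨c, hc⟩ := ih fun i hi => hf i (Finset.mem_insert_of_mem hi)
    exact ⟨b ^^ c, by rw [Finset.sum_insert ha, hb, hc, bitV_xor]⟩

omit [CharP K 2] in
theorem bitV_mul (a b : Bool) : bitV K a * bitV K b = bitV K (a && b) := by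
  cases a <;> simp [bitV]

theorem lin_bin (m mask : ℕ) : BinV (lin (bvec K m) mask) :=
  binV_sum _ fun _ _ => ⟨_, bitV_mul _ _⟩

theorem lin_xor (x : chevE6.Idx → K) (a b : ℕ) : lin x (a ^^^ b) = lin x a + lin x b := by
  simp only [lin, Nat.testBit_xor, bitV_xor, add_mul, Finset.sum_add_distrib]

omit [CharP K 2] in
theorem lin_zero (x : chevE6.Idx → K) : lin x 0 = 0 := by simp [lin, bitV]

omit [CharP K 2] in
theorem lin_two_pow (x : chevE6.Idx → K) {p : ℕ} (b : chevE6.Idx) (hb : ix b = p) :
    lin x (2 ^ p) = x b := by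
  rw [lin, Finset.sum_eq_single b]
  · simp [hb, bitV]
  · intro c _ hc
    rw [Nat.testBit_two_pow, decide_eq_false fun e => hc (ix_inj (e.symm.trans hb.symm))]
    simp [bitV]
  · exact fun e => absurd (Finset.mem_univ _) e

theorem lin_foldl (x : chevE6.Idx → K) {α : Type*} (f : α → ℕ) : ∀ (l : List α) (a : ℕ),
    lin x (l.foldl (fun a j => a ^^^ f j) a) = lin x a + (l.map fun j => lin x (f j)).sum := by
  intro l
  induction l with
  | nil => intro a; simp
  | cons j l ih =>
    intro a
    rw [List.foldl_cons, ih, lin_xor, List.map_cons, List.sum_cons, add_assoc]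

omit [CharP K 2] in
theorem bvec_ofBits {n : ℕ} (f : ℕ → Bool) (b : chevE6.Idx) :
    bvec K (Nat.ofBits fun j : Fin n => f j.val) b = bitV K (decide (ix b < n) && f (ix b)) := by
  rw [bvec]
  by_cases hb : ix b < n
  · rw [Nat.testBit_ofBits_lt _ _ hb]; simp [hb]
  · rw [Nat.testBit_ofBits_ge _ _ (not_lt.1 hb)]; simp [hb]

include h

theorem sqM_run {l : List (List (ℕ × ℕ × ℕ))} (hl : ∀ es ∈ l, esOK es = true) (P : Pl) :
    sqM ω (runT 78 l P) = (l.map (elMat ω)).prod * sqM ω P := by
  induction l with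
  | nil => simp [runT]
  | cons es l ih =>
    show sqM ω (stepE 78 es (runT 78 l P)) = _
    rw [sqM_step h (hl es List.mem_cons_self), ih fun x hx => hl x (List.mem_cons_of_mem _ hx),
      List.map_cons, List.prod_cons, Matrix.mul_assoc]

theorem sqM_PRB : sqM ω PRB = spMat ω ratE := by
  rw [PRB, sqM_mulF h (Bool.and_eq_true _ _ ▸ rat_ok).1, sqM_idP, Matrix.mul_one]

theorem rcomb_th : rcomb ω (2 ^ 77) = ue K 77 := by
  funext a
  obtain ⟨b, hb⟩ := ix_surj (n := 77) (by norm_num)
  have h1 : rcomb ω (2 ^ 77) a = sqM ω PRB a b := by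
    rw [sqM_PRB h, rcomb, Matrix.mulVec, dotProduct, Finset.sum_eq_single b]
    · rw [bvec, hb, Nat.testBit_two_pow_self]; simp [bitV]
    · intro c _ hc
      rw [bvec, Nat.testBit_two_pow, decide_eq_false fun e => hc (ix_inj (e.symm.trans hb.symm))]
      simp [bitV]
    · exact fun e => absurd (Finset.mem_univ _) e
  have hc := thRat_ok
  rw [thRat, force2_eq] at hc
  have hc := List.all_eq_true.1 hc (ix a) (List.mem_range.2 (ix_lt a))
  simp only [Bool.and_eq_true, Bool.not_eq_true'] at hc
  rw [h1]
  simp only [sqM, Matrix.of_apply, pval, hb, hc.2, ue]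
  by_cases ha : ix a = 77
  · rw [ha, beqT] at hc
    rw [ha]
    simp only [] at hc
    simp [hc.1, bitV]
  · rw [beqF ha] at hc
    simp only [Bool.not_eq_true'] at hc
    simp [hc.1, ha, bitV]

theorem rat_letter {k : ℕ} (hk : k < 12) (m : ℕ) :
    ∃ m', elMat ω (elE k) *ᵥ rcomb ω m = rcomb ω m' := by
  have hk' := List.all_eq_true.1 (Bool.and_eq_true _ _ ▸ rat_ok).2 k (List.mem_range.2 hk)
  have e := congrArg (sqM ω) (peq_eq hk')
  rw [sqM_step h (es_el (lt_trans hk (by norm_num))), sqM_mulF h (Bool.and_eq_true _ _ ▸ rat_ok).1,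
    sqM_PRB h] at e
  set Z : Matrix chevE6.Idx chevE6.Idx K := sqM ω (ratActTab.getD k 0, 0) with hZ
  have hbin : ∀ a, ∃ c, (Z *ᵥ bvec K m) a = bitV K c := by
    intro a
    show BinV (∑ b, Z a b * bvec K m b)
    refine binV_sum _ fun b _ => ?_
    refine ⟨(ratActTab.getD k 0).testBit (78 * ix a + ix b) && m.testBit (ix b), ?_⟩
    rw [← bitV_mul]
    simp [hZ, sqM, pval, bvec, bitV]
  choose c hc using hbin
  refine ⟨Nat.ofBits fun j : Fin 78 => c (ixE.symm j), ?_⟩
  have hv : bvec K (Nat.ofBits fun j : Fin 78 => c (ixE.symm j)) = Z *ᵥ bvec K m := by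
    funext a
    have hj : (⟨ix a, ix_lt a⟩ : Fin 78) = ixE a := Fin.ext (ixE_val a).symm
    rw [bvec, Nat.testBit_ofBits_lt _ _ (ix_lt a), hj, Equiv.symm_apply_apply, hc]
  rw [rcomb, rcomb, hv, Matrix.mulVec_mulVec, Matrix.mulVec_mulVec, e]

omit h in
theorem lin_eq_zero_pair (h : ω ^ 2 + ω + 1 = 0) {u v : K} (hu : BinV u) (hv : BinV v)
    (e : u + v * ω = 0) : u = 0 ∧ v = 0 := by
  obtain ⟨a, rfl⟩ := hu
  obtain ⟨b, rfl⟩ := hv
  obtain ⟨h0, -, h3⟩ := omega_ne h
  revert e
  cases a <;> cases b <;> simp [bitV, h0, h3]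

end Sound

section Group

variable {K : Type*} [Field K] [Fintype K] (hK : Fintype.card K = 4)

include hK

/-- the group keeps the rational form -/
theorem rat_step (g : ↥(twistedE6 K 2)) (m : ℕ) :
    ∃ m', g.1.val *ᵥ rcomb (omK hK) m = rcomb (omK hK) m' := by
  have := charTwo hK
  have hg : g ∈ Subgroup.closure {g : ↥(twistedE6 K 2) | ∃ k, k < 12 ∧ g = eg hK k} := by
    rw [closure_letters hK]; trivial
  induction hg using Subgroup.closure_induction generalizing m with
  | mem x hx =>
    obtain ⟨k, hk, rfl⟩ := hx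
    rw [eg_val hK (lt_trans hk (by norm_num))]
    exact rat_letter (omK_spec hK) hk m
  | one => exact ⟨m, by simp⟩
  | mul x y _ _ ihx ihy =>
    obtain ⟨m1, h1⟩ := ihy m
    obtain ⟨m2, h2⟩ := ihx m1
    exact ⟨m2, by simp only [Subgroup.coe_mul, Units.val_mul, ← Matrix.mulVec_mulVec, h1, h2]⟩
  | inv x _ ih =>
    classical
    have hpow : ∀ (n : ℕ) (m : ℕ), ∃ m', (x ^ n).1.val *ᵥ rcomb (omK hK) m = rcomb (omK hK) m' := by
      intro n
      induction n with
      | zero => intro m; exact ⟨m, by simp⟩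
      | succ n ihn =>
        intro m
        obtain ⟨m1, h1⟩ := ihn m
        obtain ⟨m2, h2⟩ := ih m1
        refine ⟨m2, ?_⟩
        rw [pow_succ']
        simp only [Subgroup.coe_mul, Units.val_mul, ← Matrix.mulVec_mulVec, h1, h2]
    have hinv : x⁻¹ = x ^ (orderOf x - 1) := by
      refine inv_eq_of_mul_eq_one_right ?_
      rw [← pow_succ', Nat.sub_add_cancel (orderOf_pos x), pow_orderOf_eq_one]
    rw [hinv]
    exact hpow _ m

/-- the orbit of the long root vector lies in the rational form -/
theorem rat_orbit (g : ↥(twistedE6 K 2)) :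
    ∃ m, g.1.val *ᵥ ue K 77 = rcomb (omK hK) m := by
  have := charTwo hK
  rw [← rcomb_th (omK_spec hK)]
  exact rat_step hK g _

/-- vectors of the rational form satisfying the equations are combinations of `B` -/
theorem fix_sound {ops : List (List ℕ × List ℕ)} {B : List (List ℕ)} {ct : FixCert}
    (hf : fixOK ops B ct = true) (m : ℕ)
    (hm : ∀ p ∈ ops, (wg hK p.1).1.val *ᵥ rcomb (omK hK) m = (wg hK p.2).1.val *ᵥ rcomb (omK hK) m) :
    ∃ m' < 2 ^ B.length, rcomb (omK hK) m = comb (omK hK) B m' := by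
  have := charTwo hK
  have h := omK_spec hK
  obtain ⟨Zb, piv, sel, cb⟩ := ct
  simp only [fixOK, forceMap_eq, forceNum_eq, Bool.and_eq_true, List.all_eq_true, Nat.blt_eq,
    Nat.ble_eq, Nat.beq_eq] at hf
  obtain ⟨⟨⟨⟨⟨⟨⟨hlen, hes⟩, hops⟩, hpiv⟩, hpl⟩, hsel⟩, hB⟩, hcomb⟩ := hf
  set x := bvec K m with hx
  have heq : ∀ s ∈ sel, lin x (eqOf (ops.map dOf) s) = 0 := by
    intro s hs
    rcases Nat.lt_or_ge s.1 ops.length with hlt | hge
    swap
    · rw [eqOf, List.getD_eq_default _ _ (by simpa using hge)]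
      cases Nat.beq (s.2 % 2) 0 <;> simp [blk, lin_zero]
    have ho : s.2 / 2 < 78 := by have := hsel s hs; omega
    obtain ⟨a, ha⟩ := ix_surj ho
    set p := ops[s.1] with hp
    have hmem : p ∈ ops := List.getElem_mem hlt
    obtain ⟨hw, hw'⟩ := hops p hmem
    have hwk : ∀ w : List ℕ, (∀ k ∈ w, k < 244) →
        sqM (omK hK) (runT 78 (w.map elE) PRB) = (wg hK w).1.val * spMat (omK hK) ratE := by
      intro w hw
      rw [sqM_run h (fun es he => by
          obtain ⟨k, hk, rfl⟩ := List.mem_map.1 he
          exact es_el (hw k hk)), sqM_PRB h, wg_val hK hw, List.map_map]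
      rfl
    have hD : (sqM (omK hK) (dOf p) : Matrix chevE6.Idx chevE6.Idx K) *ᵥ x = 0 := by
      have hd : sqM (omK hK) (dOf p) = sqM (omK hK) (runT 78 (p.1.map elE) PRB) +
          sqM (omK hK) (runT 78 (p.2.map elE) PRB) := by
        funext u v
        simp only [dOf, force2_eq, sqM, Matrix.of_apply, Matrix.add_apply]
        exact pval_xor _ _ _ _
      rw [hd, hwk _ hw, hwk _ hw', Matrix.add_mulVec, ← Matrix.mulVec_mulVec,
        ← Matrix.mulVec_mulVec, show spMat (omK hK) ratE *ᵥ x = rcomb (omK hK) m from rfl, hm p hmem]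
      funext u
      exact CharTwo.add_self_eq_zero _
    have hrow := congrFun hD a
    simp only [Matrix.mulVec, dotProduct, sqM, Matrix.of_apply, pval, add_mul, ha, Pi.zero_apply,
      Finset.sum_add_distrib, mul_right_comm _ (omK hK), ← Finset.sum_mul] at hrow
    have hblk : ∀ X : ℕ, lin x (blk 78 X (s.2 / 2)) =
        ∑ b, bitV K (X.testBit (78 * (s.2 / 2) + ix b)) * x b := by
      intro X
      simp only [lin, testBit_blk, ix_lt, decide_true, Bool.true_and]
    rw [← hblk, ← hblk] at hrow
    obtain ⟨h1, h2⟩ := lin_eq_zero_pair h (hx ▸ lin_bin m _) (hx ▸ lin_bin m _) hrow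
    rw [eqOf, List.getD_eq_getElem _ _ (by simpa using hlt), List.getElem_map]
    cases Nat.beq (s.2 % 2) 0
    · exact h2
    · exact h1
  set n := B.length with hn
  set m' := Nat.ofBits fun j : Fin n => m.testBit (piv.getD j.val 0) with hm'
  refine ⟨m', Nat.ofBits_lt_two_pow _, ?_⟩
  have hx' : ∀ b, bvec K m' b = bitV K (decide (ix b < n) && m.testBit (piv.getD (ix b) 0)) :=
    fun b => bvec_ofBits (fun j => m.testBit (piv.getD j 0)) b
  have hZ : ∀ a, x a = (sqM (omK hK) (Zb, 0) *ᵥ bvec K m') a := by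
    intro a
    have hc := hcomb (ix a) (List.mem_range.2 (ix_lt a))
    have h0 : lin x (combEq (sel.map (eqOf (ops.map dOf))) (cb.getD (ix a) [])) = 0 := by
      rw [combEq, lin_foldl, lin_zero, zero_add]
      refine List.sum_eq_zero fun y hy => ?_
      obtain ⟨j, -, rfl⟩ := List.mem_map.1 hy
      rcases Nat.lt_or_ge j sel.length with hj | hj
      · rw [List.getD_eq_getElem _ _ (by simpa using hj), List.getElem_map]
        exact heq _ (List.getElem_mem hj)
      · rw [List.getD_eq_default _ _ (by simpa using hj), lin_zero]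
    rw [hc, lin_xor, lin_two_pow x a rfl, pivMask, lin_foldl, lin_zero, zero_add] at h0
    rw [CharTwo.add_eq_zero.1 h0]
    simp only [Matrix.mulVec, dotProduct, sqM, Matrix.of_apply, pval, Nat.zero_testBit, hx']
    rw [sum_ix (K := K) fun o => (bitV K (Zb.testBit (78 * ix a + o)) + bitV K false * omK hK) *
      bitV K (decide (o < n) && m.testBit (piv.getD o 0))]
    obtain ⟨r, hr⟩ := Nat.exists_eq_add_of_le hlen
    rw [show List.range 78 = List.range (n + r) by rw [← hr], List.range_add, List.map_append, List.sum_append, List.sum_eq_zero (l := List.map _ (List.map _ _))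
      (fun y hy => by
        obtain ⟨o, ho, rfl⟩ := List.mem_map.1 hy
        obtain ⟨o', -, rfl⟩ := List.mem_map.1 ho
        simp [bitV]), add_zero]
    refine congrArg List.sum (List.map_congr_left fun j hj => ?_)
    have hjn := List.mem_range.1 hj
    have hp : piv.getD j 0 < 78 := by
      rw [List.getD_eq_getElem _ _ (hpl.symm ▸ hjn)]
      exact hpiv _ (List.getElem_mem _)
    obtain ⟨b, hb⟩ := ix_surj hp
    cases Zb.testBit (78 * ix a + j)
    · simp [lin_zero, bitV]
    · rw [cond_true, Nat.one_shiftLeft, lin_two_pow x b hb, hx, bvec, hb]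
      simp [bitV, hjn]
  have e := congrArg (sqM (omK hK)) (peq_eq hB)
  rw [sqM_mulF h (Bool.and_eq_true _ _ ▸ rat_ok).1, sqM_mulF h hes, sqM_idP, Matrix.mul_one] at e
  rw [rcomb, ← hx, funext hZ, Matrix.mulVec_mulVec, e]
  rfl

end Group

end Cfsg.Agent.H56.EMult
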