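import Cfsg.Agent.H56.EMult.Slice.FormCheck

/-!
A cubic invariant of the adjoint module of the twisted group: the bracket and the form modulo two
are preserved by the letters, hence by the group.
-/

set_option autoImplicit false
set_option maxRecDepth 100000
set_option Elab.async false

namespace Cfsg.Agent.H56.EMult

open Cfsg.Lie
open Cfsg.Agent.H45 (force force_eq)
open Matrix

section Sound

variable {K : Type*} [Field K] (ω : K)

/-- the bracket -/
noncomputable def br (a b : chevE6.Idx → K) : chevE6.Idx → K :=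
  ∑ i, a i • (spMat ω (adE (ix i)) *ᵥ b)

/-- the form on vectors -/
noncomputable def kp (a b : chevE6.Idx → K) : K := a ⬝ᵥ (spMat ω kapE *ᵥ b)

/-- the cubic invariant; it vanishes on the orbit of a long root vector -/
noncomputable def Fv (v a b : chevE6.Idx → K) : chevE6.Idx → K :=
  br ω (br ω a v) (br ω b v) + kp ω v a • br ω b v + kp ω v b • br ω a v +
    kp ω v (br ω a b) • v

/-- the square matrix of a packed array -/
def sqM (P : Pl) : Matrix chevE6.Idx chevE6.Idx K :=
  Matrix.of fun a b => pval ω P (78 * ix a + ix b)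

theorem spMat_append (l l' : List (ℕ × ℕ × ℕ)) : spMat ω (l ++ l') = spMat ω l + spMat ω l' := by
  funext a b
  simp [spMat, Matrix.add_apply]

theorem spMat_nil : spMat ω [] = 0 := by
  funext a b
  simp [spMat]

theorem spMat_flatMap {α : Type} (l : List α) (f : α → List (ℕ × ℕ × ℕ)) :
    spMat ω (l.flatMap f) = (l.map fun x => spMat ω (f x)).sum := by
  induction l with
  | nil => simp [spMat_nil]
  | cons x l ih => rw [List.flatMap_cons, spMat_append, ih, List.map_cons, List.sum_cons]

theorem spMat_swE (es : List (ℕ × ℕ × ℕ)) : spMat ω (swE es) = (spMat ω es)ᵀ := by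
  funext a b
  simp only [spMat, swE, Matrix.transpose_apply, Matrix.of_apply, List.map_map]
  refine congrArg List.sum (List.map_congr_left fun e _ => ?_)
  simp only [Function.comp]
  congr 1
  exact propext and_comm

variable [CharP K 2] {ω} (h : ω ^ 2 + ω + 1 = 0)

include h

theorem spMat_smulE {c : ℕ} (hc : c < 4) {es : List (ℕ × ℕ × ℕ)} (hes : ∀ e ∈ es, e.2.2 < 4) :
    spMat ω (smulE c es) = cv ω c • spMat ω es := by
  funext a b
  induction es with
  | nil => simp [spMat, smulE]
  | cons e es ih =>
    have := ih fun x hx => hes x (List.mem_cons_of_mem _ hx)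
    simp only [spMat, smulE, Matrix.smul_apply, Matrix.of_apply, smul_eq_mul, List.map_cons,
      List.sum_cons] at this ⊢
    rw [this, mul_add]
    congr 1
    split
    · exact (cv_cmul h hc (hes e List.mem_cons_self)).2
    · rw [mul_zero]

theorem sqM_step {es : List (ℕ × ℕ × ℕ)} (hes : esOK es = true) (P : Pl) :
    sqM ω (stepE 78 es P) = elMat ω es * sqM ω P := by
  funext a b
  have := congrFun (congrFun (matOf_step (W := 78) h hes P) a) (ixE b)
  simpa [sqM, matOf, Matrix.mul_apply, ixE_val] using this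

theorem sqM_mulF {es : List (ℕ × ℕ × ℕ)} (hes : esOK es = true) (P : Pl) :
    sqM ω (mulF 78 es P) = spMat ω es * sqM ω P := by
  funext a b
  have := congrFun (congrFun (matOf_mulE (W := 78) h hes P) a) (ixE b)
  simpa [sqM, matOf, Matrix.mul_apply, ixE_val, mulF_eq] using this

omit h [CharP K 2] in
theorem sqM_idP : sqM ω idP = 1 := by
  funext a b
  have := congrFun (congrFun (matOf_idP (ω := ω)) a) (ixE b)
  simp only [matOf, Matrix.of_apply, ixE_val] at this
  rw [sqM, Matrix.of_apply, this, Matrix.one_apply]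
  by_cases hab : a = b
  · simp [hab]
  · rw [if_neg hab, if_neg fun e => hab (ix_inj e)]

omit h [CharP K 2] in
theorem es_ad {i : ℕ} (hi : i < 78) : esOK (adE i) = true := by
  have := tab_ok
  simp only [tabChk, Bool.and_eq_true, List.all_eq_true] at this
  exact this.1 i (List.mem_range.2 hi)

omit h [CharP K 2] in
theorem es_kap : esOK kapE = true := by
  have := tab_ok
  simp only [tabChk, Bool.and_eq_true] at this
  exact this.2

theorem spMat_adComb {es : List (ℕ × ℕ × ℕ)} (hes : esOK es = true) (i : chevE6.Idx) :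
    spMat ω (adComb es (ix i)) = ∑ l, elMat ω es l i • spMat ω (adE (ix l)) := by
  have hsp := fun e he => esOK_spec hes e he
  simp only [elMat_eq hes, Matrix.add_apply, add_smul, Finset.sum_add_distrib]
  rw [adComb, spMat_append, spMat_flatMap]
  congr 1
  · rw [Finset.sum_eq_single i]
    · rw [Matrix.one_apply_eq, one_smul]
    · intro l _ hl; rw [Matrix.one_apply_ne hl, zero_smul]
    · exact fun e => absurd (Finset.mem_univ _) e
  · clear hes
    induction es with
    | nil => simp [spMat]
    | cons e es ih =>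
      have ih' := ih fun x hx => hsp x (List.mem_cons_of_mem _ hx)
      obtain ⟨hc, hcol, hrow⟩ := hsp e List.mem_cons_self
      simp only [spMat, Matrix.of_apply, List.map_cons, List.sum_cons, add_smul,
        Finset.sum_add_distrib] at ih' ⊢
      obtain ⟨r, hr⟩ := ix_surj hrow
      by_cases he : e.2.1 = ix i
      · rw [List.filter_cons_of_pos (by rw [he]; exact beqT _), List.map_cons, List.sum_cons]
        congr 1
        rw [Finset.sum_eq_single r]
        · rw [if_pos ⟨hr.symm, he⟩, hr]
          exact spMat_smulE h hc fun x hx =>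
            (esOK_spec (es_ad (hr ▸ ix_lt r)) x hx).1
        · intro l _ hl
          rw [if_neg fun e' => hl (ix_inj (by rw [← e'.1, hr])), zero_smul]
        · exact fun e' => absurd (Finset.mem_univ _) e'
      · rw [List.filter_cons_of_neg (by rw [beqF he]; simp), ih']
        conv_rhs => arg 1; arg 2; ext l; rw [if_neg fun e' => he e'.2, zero_smul]
        rw [Finset.sum_const_zero, zero_add]

/-- preservation of the bracket and the form -/
def Eqv (ω : K) (M : Matrix chevE6.Idx chevE6.Idx K) : Prop :=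
  (∀ a b, br ω (M *ᵥ a) (M *ᵥ b) = M *ᵥ br ω a b) ∧ ∀ a b, kp ω (M *ᵥ a) (M *ᵥ b) = kp ω a b

theorem eqv_letter {k : ℕ} (hk : k < 12) : Eqv ω (elMat ω (elE k)) := by
  have h1 := List.all_eq_true.1 br_ok k (List.mem_range.2 hk)
  simp only [Bool.and_eq_true, brChk, kapChk, List.all_eq_true] at h1
  obtain ⟨hb, hsw, hkap⟩ := h1
  have hg : esOK (elE k) = true := es_el (lt_trans hk (by norm_num))
  set g := elMat ω (elE k) with hgdef
  constructor
  · intro a b
    have key : ∀ i : chevE6.Idx, g * spMat ω (adE (ix i)) =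
        (∑ l, g l i • spMat ω (adE (ix l))) * g := by
      intro i
      obtain ⟨hes, hp⟩ := hb (ix i) (List.mem_range.2 (ix_lt i))
      have e := congrArg (sqM ω) (peq_eq hp)
      rw [sqM_step h hg, sqM_mulF h (es_ad (ix_lt i)), sqM_mulF h hes, sqM_step h hg, sqM_idP,
        Matrix.mul_one, Matrix.mul_one, spMat_adComb h hg i] at e
      exact e
    simp only [br, Matrix.mulVec_sum, Matrix.mulVec_smul, Matrix.mulVec_mulVec, key,
      Matrix.sum_mul, Matrix.smul_mul, Matrix.sum_mulVec, Matrix.smul_mulVec, Finset.smul_sum,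
      smul_smul]
    rw [Finset.sum_comm]
    refine Finset.sum_congr rfl fun i _ => ?_
    rw [show (g *ᵥ a) i = ∑ j, g i j * a j from rfl, Finset.sum_smul]
    exact Finset.sum_congr rfl fun j _ => by rw [mul_comm]
  · intro a b
    have e := congrArg (sqM ω) (peq_eq hkap)
    rw [sqM_step h hsw, sqM_mulF h es_kap, sqM_step h hg, sqM_mulF h es_kap, sqM_idP,
      Matrix.mul_one, Matrix.mul_one] at e
    have ht : elMat ω (swE (elE k)) = gᵀ := by
      rw [hgdef, elMat_eq hsw, elMat_eq hg, spMat_swE, Matrix.transpose_add, Matrix.transpose_one]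
    rw [ht] at e
    calc kp ω (g *ᵥ a) (g *ᵥ b) = (a ᵥ* gᵀ) ⬝ᵥ (spMat ω kapE *ᵥ (g *ᵥ b)) := by
          rw [Matrix.vecMul_transpose]; rfl
      _ = a ⬝ᵥ ((gᵀ * (spMat ω kapE * g)) *ᵥ b) := by
          rw [← Matrix.dotProduct_mulVec, Matrix.mulVec_mulVec, Matrix.mulVec_mulVec, Matrix.mul_assoc]
      _ = kp ω a b := by rw [e]; rfl

end Sound

section Group

variable {K : Type*} [Field K] [Fintype K] (hK : Fintype.card K = 4)

include hK

theorem eqv_group (g : ↥(twistedE6 K 2)) : Eqv (omK hK) g.1.val := by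
  have := charTwo hK
  have hg : g ∈ Subgroup.closure {g : ↥(twistedE6 K 2) | ∃ k, k < 12 ∧ g = eg hK k} := by
    rw [closure_letters hK]; trivial
  induction hg using Subgroup.closure_induction with
  | mem x hx =>
    obtain ⟨k, hk, rfl⟩ := hx
    rw [eg_val hK (lt_trans hk (by norm_num))]
    exact eqv_letter (omK_spec hK) hk
  | one => exact ⟨fun a b => by simp, fun a b => by simp⟩
  | mul x y _ _ ihx ihy =>
    constructor
    · intro a b
      simp only [Subgroup.coe_mul, Units.val_mul, ← Matrix.mulVec_mulVec, ihx.1, ihy.1]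
    · intro a b
      simp only [Subgroup.coe_mul, Units.val_mul, ← Matrix.mulVec_mulVec, ihx.2, ihy.2]
  | inv x _ ih =>
    have hl : ∀ v : chevE6.Idx → K, x.1.val *ᵥ ((x⁻¹).1.val *ᵥ v) = v := by
      intro v; simp [Matrix.mulVec_mulVec]
    have hr : ∀ v : chevE6.Idx → K, (x⁻¹).1.val *ᵥ (x.1.val *ᵥ v) = v := by
      intro v; simp [Matrix.mulVec_mulVec]
    constructor
    · intro a b
      have := ih.1 ((x⁻¹).1.val *ᵥ a) ((x⁻¹).1.val *ᵥ b)
      rw [hl, hl] at this
      rw [this, hr]
    · intro a b
      have := ih.2 ((x⁻¹).1.val *ᵥ a) ((x⁻¹).1.val *ᵥ b)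
      rw [hl, hl] at this
      exact this.symm

/-- the cubic is equivariant -/
theorem Fv_equiv (g : ↥(twistedE6 K 2)) (v a b : chevE6.Idx → K) :
    Fv (omK hK) (g.1.val *ᵥ v) (g.1.val *ᵥ a) (g.1.val *ᵥ b) = g.1.val *ᵥ Fv (omK hK) v a b := by
  obtain ⟨h1, h2⟩ := eqv_group hK g
  simp only [Fv, h1, h2, Matrix.mulVec_add, Matrix.mulVec_smul]

end Group

end Cfsg.Agent.H56.EMult
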