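import Cfsg.Agent.H56.EMult.Group
import Cfsg.Agent.H56.EMult.Slice.FormData

/-!
The tables of the bracket and the form modulo two, checked to be preserved by the letters.
-/

set_option autoImplicit false
set_option maxRecDepth 100000
set_option Elab.async false

namespace Cfsg.Agent.H56.EMult

open Cfsg.Lie
open Cfsg.Agent.H45 (force force_eq)

/-- the entries of a table -/
def uE (p : ℕ × ℕ) : List (ℕ × ℕ × ℕ) := unpack p.1 p.2

/-- the adjoint action of a basis vector -/
def adE (i : ℕ) : List (ℕ × ℕ × ℕ) := uE (adTab.getD i (0, 0))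

/-- the form -/
def kapE : List (ℕ × ℕ × ℕ) := uE kapTab

/-- multiples of entries -/
def smulE (c : ℕ) (es : List (ℕ × ℕ × ℕ)) : List (ℕ × ℕ × ℕ) :=
  es.map fun e => (e.1, e.2.1, cmulC c e.2.2)

/-- transposed entries -/
def swE (es : List (ℕ × ℕ × ℕ)) : List (ℕ × ℕ × ℕ) := es.map fun e => (e.2.1, e.1, e.2.2)

/-- the adjoint action of the image of a basis vector under sparse entries -/
def adComb (es : List (ℕ × ℕ × ℕ)) (i : ℕ) : List (ℕ × ℕ × ℕ) :=
  adE i ++ (es.filter fun e => Nat.beq e.2.1 i).flatMap fun e => smulE e.2.2 (adE e.1)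

/-- both planes computed first -/
noncomputable def force2 {α : Type} (P : Pl) (f : Pl → α) : α :=
  force P.1 fun a => force P.2 fun b => f (a, b)

theorem force2_eq {α : Type} (P : Pl) (f : Pl → α) : force2 P f = f P := by
  simp [force2, force_eq]

/-- sparse rows applied to a computed array -/
noncomputable def mulF (W : ℕ) (es : List (ℕ × ℕ × ℕ)) (P : Pl) : Pl :=
  force2 P fun Q => addAll W Q es (0, 0)

theorem mulF_eq (W : ℕ) (es : List (ℕ × ℕ × ℕ)) (P : Pl) : mulF W es P = mulE W es P := by
  rw [mulF, force2_eq]; rfl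

/-- the tables are sparse entries -/
def tabChk : Bool := ((List.range 78).all fun i => esOK (adE i)) && esOK kapE

theorem tab_ok : tabChk = true := by decide +kernel

/-- the check of one letter on the bracket -/
noncomputable def brChk (k : ℕ) : Bool :=
  (List.range 78).all fun i =>
    esOK (adComb (elE k) i) &&
      peq (stepE 78 (elE k) (mulF 78 (adE i) idP))
        (mulF 78 (adComb (elE k) i) (stepE 78 (elE k) idP))

/-- the check of one letter on the form -/
noncomputable def kapChk (k : ℕ) : Bool :=
  esOK (swE (elE k)) &&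
    peq (stepE 78 (swE (elE k)) (mulF 78 kapE (stepE 78 (elE k) idP))) (mulF 78 kapE idP)

theorem br_ok : ((List.range 12).all fun k => brChk k && kapChk k) = true := by decide +kernel

end Cfsg.Agent.H56.EMult
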